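import Groth.Agent.S0025
import Groth.Agent.S17961
import Groth.Agent.Approx60.Segre
import Mathlib.AlgebraicGeometry.Morphisms.UniversallyOpen
import Mathlib.AlgebraicGeometry.Morphisms.UniversallyClosed
import Mathlib.AlgebraicGeometry.Morphisms.Proper
import Mathlib.Topology.LocallyClosed

/-!
A flat separated scheme over a henselian Noetherian local ring with proper closed fibre and
connected fibres over the minimal primes is proper.
-/

set_option autoImplicit false
universe u

open CategoryTheory CategoryTheory.Limits AlgebraicGeometry TopologicalSpace Topology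

namespace Groth.Agent.FBase64.ProperNhd

variable {A : Type u} [CommRing A] [IsNoetherianRing A]

/-- The closed immersion of the spectrum of the residue field. -/
noncomputable abbrev clPt (I : Ideal A) : Spec (CommRingCat.of (A ⧸ I)) ⟶ Spec (CommRingCat.of A) :=
  Spec.map (CommRingCat.ofHom (Ideal.Quotient.mk I))

theorem range_clPt [IsLocalRing A] :
    Set.range (clPt (IsLocalRing.maximalIdeal A)) = {IsLocalRing.closedPoint A} := by
  show Set.range (PrimeSpectrum.comap (Ideal.Quotient.mk (IsLocalRing.maximalIdeal A))) = _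
  rw [range_comap_of_surjective _ _ Ideal.Quotient.mk_surjective, Ideal.mk_ker]
  exact PrimeSpectrum.zeroLocus_eq_singleton _

theorem range_fst_clPt [IsLocalRing A] {X : Scheme.{u}} (f : X ⟶ Spec (CommRingCat.of A)) :
    Set.range (pullback.fst f (clPt (IsLocalRing.maximalIdeal A))) = f ⁻¹' {IsLocalRing.closedPoint A} := by
  rw [Scheme.Pullback.range_fst]
  exact congrArg (⇑f ⁻¹' ·) range_clPt

/-- A relatively clopen part of the closed fibre of a proper scheme over a henselian local ring
lifts to a clopen subset. -/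
theorem exists_clopen_lift [IsLocalRing A] [HenselianRing A (IsLocalRing.maximalIdeal A)]
    {X : Scheme.{u}} (f : X ⟶ Spec (CommRingCat.of A)) [IsProper f] {C : Set X} (hC : IsClosed C)
    (hC' : ∃ O : Set X, IsOpen O ∧ C = O ∩ f ⁻¹' {IsLocalRing.closedPoint A}) :
    ∃ U : Set X, IsClopen U ∧ U ∩ f ⁻¹' {IsLocalRing.closedPoint A} = C := by
  obtain ⟨O, hO, hCO⟩ := hC'
  let q := clPt (IsLocalRing.maximalIdeal A)
  let ι := pullback.fst (𝟙 X) (pullback.fst f q)
  have hr : Set.range ι = f ⁻¹' {IsLocalRing.closedPoint A} := by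
    rw [Scheme.Pullback.range_fst, range_fst_clPt]
    rfl
  have hV : IsClopen (ι ⁻¹' C) := by
    refine ⟨hC.preimage ι.continuous, ?_⟩
    have e : ι ⁻¹' C = ι ⁻¹' O := by
      ext z
      refine ⟨fun h => (hCO.le h).1, fun h => hCO.ge ⟨h, hr.le ⟨z, rfl⟩⟩⟩
    rw [e]
    exact hO.preimage ι.continuous
  obtain ⟨U, ⟨hU, hUV⟩, -⟩ := Groth.Agent.S17961.result A (IsLocalRing.maximalIdeal A) f X (𝟙 X)
    inferInstance _ hV
  refine ⟨U, hU, Set.ext fun x => ⟨fun ⟨hx, hx'⟩ => ?_, fun hx => ?_⟩⟩
  · obtain ⟨z, rfl⟩ := hr.ge hx'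
    exact hUV.le hx
  · have hx' := (hCO.le hx).2
    obtain ⟨z, rfl⟩ := hr.ge hx'
    exact ⟨hUV.ge hx, hx'⟩

/-- A nonempty closed subset of a scheme proper over a local ring meets the closed fibre. -/
theorem eq_empty_of_disjoint_closedFibre [IsLocalRing A] {X : Scheme.{u}}
    (f : X ⟶ Spec (CommRingCat.of A)) [UniversallyClosed f] {Z : Set X} (hZ : IsClosed Z)
    (h : ∀ x ∈ Z, f x ≠ IsLocalRing.closedPoint A) : Z = ∅ := by
  by_contra hne
  obtain ⟨x, hx⟩ := Set.nonempty_iff_ne_empty.mpr hne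
  have hcl : IsClosed (f '' Z) := f.isClosedMap _ hZ
  have hsp : f x ⤳ IsLocalRing.closedPoint A :=
    IsLocalRing.specializes_closedPoint (R := A) (f x)
  obtain ⟨y, hy, hfy⟩ := hsp.mem_closed hcl ⟨x, hx, rfl⟩
  exact h y hy hfy

/-- Properness from properness of the closed fibre, over a henselian base. -/
theorem isProper_of_closedFibre [IsLocalRing A] [HenselianRing A (IsLocalRing.maximalIdeal A)]
    {X : Scheme.{u}} (f : X ⟶ Spec (CommRingCat.of A)) [Flat f] [IsSeparated f] [LocallyOfFiniteType f]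
    [QuasiCompact f] (h0 : ∃ x : X, f x = IsLocalRing.closedPoint A)
    (hprop : IsProper (pullback.snd f (clPt (IsLocalRing.maximalIdeal A))))
    (hgen : ∀ η : Spec (CommRingCat.of A), (∀ η', η' ⤳ η → η' = η) →
      _root_.IsPreconnected (f ⁻¹' {η})) : IsProper f := by
  classical
  haveI : IsNoetherianRing (CommRingCat.of A) := ‹_›
  obtain ⟨n, X', π, j, hj, hjb, hπ, hπs, -⟩ := Groth.Agent.S0025.result f
  have := hj; have := hπ; have := hπs
  have := Approx60.Segre.isProper_toBase n (Spec (CommRingCat.of A))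
  have : QuasiCompact (j ≫ CohB1.ProjSpaceOver.toBase n (Spec (CommRingCat.of A))) := by
    rw [hjb]; infer_instance
  have : QuasiCompact j := QuasiCompact.of_comp j (CohB1.ProjSpaceOver.toBase n (Spec (CommRingCat.of A)))
  let b := j.imageι ≫ CohB1.ProjSpaceOver.toBase n (Spec (CommRingCat.of A))
  have : IsProper b := inferInstanceAs (IsProper (j.imageι ≫ _))
  let t := j.toImage
  have htb : t ≫ b = π ≫ f := by rw [Scheme.Hom.toImage_imageι_assoc, hjb]
  have htι : ∀ z, j.imageι (t z) = j z := fun z => by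
    rw [← Scheme.Hom.comp_apply, Scheme.Hom.toImage_imageι]
  have hbt : ∀ z, b (t z) = f (π z) := fun z => by
    rw [← Scheme.Hom.comp_apply, htb, Scheme.Hom.comp_apply]
  have hemb : IsEmbedding t := by
    refine IsEmbedding.of_comp t.continuous j.imageι.continuous ?_
    rw [show ⇑j.imageι ∘ ⇑t = ⇑j from funext htι]
    exact j.isEmbedding
  have hopen : IsOpen (Set.range t) := by
    have hlc : IsLocallyClosed (Set.range j) := IsImmersion.isLocallyClosed_range (f := j)
    have hcl : ∀ y, j.imageι y ∈ closure (Set.range j) := fun y => by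
      have : j.imageι y ∈ Set.range j.imageι := ⟨y, rfl⟩
      rwa [Scheme.IdealSheafData.range_subschemeι, Scheme.Hom.support_ker] at this
    have e : Set.range t = (fun y => (⟨j.imageι y, hcl y⟩ : closure (Set.range j))) ⁻¹'
        (Subtype.val ⁻¹' Set.range j) := by
      ext y
      refine ⟨?_, fun ⟨z, hz⟩ => ⟨z, j.imageι.isEmbedding.injective ((htι z).trans hz)⟩⟩
      rintro ⟨z, rfl⟩
      exact ⟨z, (htι z).symm⟩
    rw [e]
    exact hlc.isOpen_preimage_val_closure.preimage (j.imageι.continuous.subtype_mk _)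
  have hoe : IsOpenEmbedding t := ⟨hemb, hopen⟩
  let m := IsLocalRing.closedPoint A
  -- the closed fibre of `X'` is relatively clopen in that of the compactification
  let C : Set j.image := t '' ((π ≫ f) ⁻¹' {m})
  have hC : IsClosed C := by
    let q := clPt (IsLocalRing.maximalIdeal A)
    have hp : IsProper (pullback.snd (π ≫ f) q) := by
      have e : IsPullback (pullback.fst π (pullback.fst f q))
          (pullback.snd π (pullback.fst f q) ≫ pullback.snd f q) (π ≫ f) q :=
        (IsPullback.of_hasPullback π (pullback.fst f q)).paste_vert (IsPullback.of_hasPullback f q)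
      rw [← e.isoPullback_inv_snd]
      infer_instance
    let a := pullback.fst (π ≫ f) q ≫ t
    have ha : a ≫ b = pullback.snd (π ≫ f) q ≫ q := by
      rw [Category.assoc, htb, pullback.condition]
    have : IsClosedImmersion q := IsClosedImmersion.spec_of_surjective _ Ideal.Quotient.mk_surjective
    have : UniversallyClosed (a ≫ b) := by rw [ha]; infer_instance
    have : UniversallyClosed a := UniversallyClosed.of_comp_of_isSeparated a b
    have e : C = Set.range a := by
      have := range_fst_clPt (π ≫ f)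
      simp only [C, a, Scheme.Hom.comp_base, TopCat.coe_comp, Set.range_comp]
      exact congrArg (t '' ·) this.symm
    rw [e]
    exact a.isClosedMap.isClosed_range
  obtain ⟨W, hW, hWC⟩ := exists_clopen_lift b hC ⟨Set.range t, hopen, by
    ext y
    constructor
    · rintro ⟨z, hz, rfl⟩
      exact ⟨⟨z, rfl⟩, (hbt z).trans ((Scheme.Hom.comp_apply π f z).symm.trans hz)⟩
    · rintro ⟨⟨z, rfl⟩, hy⟩
      exact ⟨z, (Scheme.Hom.comp_apply π f z).trans ((hbt z).symm.trans hy), rfl⟩⟩
  have hWsub : W ⊆ Set.range t := by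
    have := eq_empty_of_disjoint_closedFibre b (hW.1.inter hopen.isClosed_compl) fun y hy hb => hy.2 (by
      obtain ⟨z, -, hz⟩ := hWC.le ⟨hy.1, hb⟩
      exact ⟨z, hz⟩)
    exact fun y hy => by_contra fun h => this.le ⟨hy, h⟩
  let W'' : Set X' := t ⁻¹' W
  let W' : Set X' := t ⁻¹' Wᶜ
  have hW''c : IsClosed W'' := hW.1.preimage t.continuous
  have hW'c : IsClosed W' := hW.compl.1.preimage t.continuous
  have hfib : ∀ z, f (π z) = m → z ∈ W'' := fun z hz =>
    (hWC.ge ⟨z, (Scheme.Hom.comp_apply π f z).trans hz, rfl⟩).1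
  let P : Set X := π '' W''
  let Q : Set X := π '' W'
  have hP : IsClosed P := π.isClosedMap _ hW''c
  have hQ : IsClosed Q := π.isClosedMap _ hW'c
  have hPQ : P ∪ Q = Set.univ := by
    refine Set.eq_univ_of_forall fun x => ?_
    obtain ⟨z, rfl⟩ := π.surjective x
    by_cases h : t z ∈ W
    · exact Or.inl ⟨z, h, rfl⟩
    · exact Or.inr ⟨z, h, rfl⟩
  have hdisj : P ∩ Q = ∅ := by
    have hT : IsClosed (t '' (π ⁻¹' Q ∩ W'')) := by
      have e : t '' (π ⁻¹' Q ∩ W'') = W ∩ (t '' (π ⁻¹' Q ∩ W'')ᶜ)ᶜ := by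
        ext y
        constructor
        · rintro ⟨z, hz, rfl⟩
          exact ⟨hz.2, fun ⟨z', hz', he⟩ => hz' (hemb.injective he ▸ hz)⟩
        · rintro ⟨hy, hy'⟩
          obtain ⟨z, rfl⟩ := hWsub hy
          exact ⟨z, by_contra fun h => hy' ⟨z, h, rfl⟩, rfl⟩
      rw [e]
      exact hW.1.inter (hoe.isOpenMap _ ((hQ.preimage π.continuous).inter hW''c).isOpen_compl).isClosed_compl
    have he := eq_empty_of_disjoint_closedFibre b hT fun y hy hb => by
      obtain ⟨z, ⟨⟨z', hz', hπz⟩, -⟩, rfl⟩ := hy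
      rw [hbt, ← hπz] at hb
      exact hz' (hfib z' hb)
    refine Set.eq_empty_of_forall_notMem fun x hx => ?_
    obtain ⟨⟨z, hz, rfl⟩, hxQ⟩ := hx
    exact he.le ⟨z, ⟨hxQ, hz⟩, rfl⟩
  have hPo : IsOpen P := by
    have : P = Qᶜ := Set.Subset.antisymm (fun x hx h => hdisj.le ⟨hx, h⟩)
      (fun x hx => (hPQ.ge trivial).resolve_right hx)
    rw [this]; exact hQ.isOpen_compl
  have hQo : IsOpen Q := by
    have : Q = Pᶜ := Set.Subset.antisymm (fun x hx h => hdisj.le ⟨h, hx⟩)
      (fun x hx => (hPQ.ge trivial).resolve_left hx)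
    rw [this]; exact hP.isOpen_compl
  have hQe : Q = ∅ := by
    refine Set.eq_empty_of_forall_notMem fun x hx => ?_
    obtain ⟨η, hη, hmin⟩ : ∃ η : Spec (CommRingCat.of A), η ⤳ f x ∧ ∀ η', η' ⤳ η → η' = η := by
      have := (f x).isPrime
      obtain ⟨p, hp, hle⟩ := Ideal.exists_minimalPrimes_le (I := (⊥ : Ideal A)) (J := (f x).asIdeal) bot_le
      refine ⟨⟨p, hp.1.1⟩, (PrimeSpectrum.le_iff_specializes _ _).mp hle, fun η' h' => ?_⟩
      exact PrimeSpectrum.ext (le_antisymm ((PrimeSpectrum.le_iff_specializes η' _).mpr h')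
        (hp.2 ⟨η'.isPrime, bot_le⟩ ((PrimeSpectrum.le_iff_specializes η' _).mpr h')))
    obtain ⟨x', hx', hfx'⟩ := Flat.generalizingMap f hη
    obtain ⟨x₀, hx₀⟩ := h0
    have hx₀P : x₀ ∈ P := by
      obtain ⟨z, rfl⟩ := π.surjective x₀
      exact ⟨z, hfib z hx₀, rfl⟩
    obtain ⟨y, hy, hfy⟩ := Flat.generalizingMap f (show η ⤳ f x₀ by
      rw [hx₀]; exact hη.trans (IsLocalRing.specializes_closedPoint (R := A) (f x)))
    have hy' : y ∈ P := hy.mem_open hPo hx₀P
    have hxq : x' ∈ Q := hx'.mem_open hQo hx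
    obtain ⟨w, -, hwP, hwQ⟩ := hgen η hmin P Q hPo hQo (fun _ _ => hPQ.ge trivial)
      ⟨y, hfy, hy'⟩ ⟨x', hfx', hxq⟩
    exact hdisj.le ⟨hwP, hwQ⟩
  have hrange : Set.range t = W := by
    refine Set.Subset.antisymm ?_ hWsub
    rintro _ ⟨z, rfl⟩
    by_contra h
    exact hQe.le ⟨z, h, rfl⟩
  have hci : IsClosedImmersion j := by
    refine IsClosedImmersion.of_isPreimmersion j ?_
    rw [← Scheme.Hom.toImage_imageι j]
    show IsClosed (Set.range (j.imageι ∘ t))
    rw [Set.range_comp, hrange]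
    exact j.imageι.isClosedEmbedding.isClosedMap _ hW.1
  have : UniversallyClosed (π ≫ f) := by rw [← hjb]; infer_instance
  have : UniversallyClosed f := UniversallyClosed.of_comp_surjective π f
  exact ⟨⟩

end Groth.Agent.FBase64.ProperNhd
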