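import Groth.Agent.FBase64.ProperNhd.Core
import Groth.Agent.Unr55.DescProps
import Groth.Agent.EGA4H10.CMCompletion
import Mathlib.RingTheory.AdicCompletion.LocalRing
import Mathlib.RingTheory.AdicCompletion.AsTensorProduct
import Mathlib.AlgebraicGeometry.Geometrically.Connected
import Mathlib.AlgebraicGeometry.Fiber
import Groth.Prelude.Def_EGA4b

/-!
Properness of a flat scheme with proper closed fibre over a Noetherian local ring, by passing to the
completion.
-/

set_option autoImplicit false
universe u

open CategoryTheory CategoryTheory.Limits AlgebraicGeometry TopologicalSpace Topology IsLocalRing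

namespace Groth.Agent.FBase64.ProperNhd

variable {A : Type u} [CommRing A] [IsNoetherianRing A] [IsLocalRing A]

theorem isProper_of_closedFibre_local {X : Scheme.{u}} (f : X ⟶ Spec (CommRingCat.of A)) [Flat f]
    [IsSeparated f] [LocallyOfFiniteType f] [QuasiCompact f] (h0 : ∃ x : X, f x = closedPoint A)
    (hprop : IsProper (pullback.snd f (clPt (maximalIdeal A))))
    (hgen : ∀ η : Spec (CommRingCat.of A), (∀ η', η' ⤳ η → η' = η) → Nonempty ↥(f.fiber η) →
      GeometricallyConnected (f.fiberToSpecResidueField η)) : IsProper f := by
  let B := EGA4.Cpl A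
  have : IsNoetherianRing B := EGA4H10.isNoetherianRing_cpl (A := A)
  have : IsAdicComplete (maximalIdeal B) B := by
    rw [AdicCompletion.maximalIdeal_eq_map]
    exact AdicCompletion.isAdicComplete_self _ (IsNoetherian.noetherian _)
  have : HenselianRing B (maximalIdeal B) := inferInstance
  have : IsLocalHom (algebraMap A B) :=
    ((IsLocalRing.local_hom_TFAE _).out 2 0 rfl rfl).mp AdicCompletion.maximalIdeal_eq_map.symm.le
  have : Module.FaithfullyFlat A B := Module.FaithfullyFlat.of_flat_of_isLocalHom
  let c : Spec (CommRingCat.of B) ⟶ Spec (CommRingCat.of A) :=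
    Spec.map (CommRingCat.ofHom (algebraMap A B))
  have hc : Unr55.fpqc c := by
    refine ⟨⟨⟨?_⟩, ?_⟩, inferInstance⟩
    · exact PrimeSpectrum.comap_surjective_of_faithfullyFlat
    · rw [HasRingHomProperty.Spec_iff (P := @Flat)]
      exact RingHom.flat_algebraMap_iff.mpr inferInstance
  have : Flat c := hc.1.2
  let g := pullback.snd f c
  have hgc : ∀ z, c (g z) = f (pullback.fst f c z) := fun z => by
    rw [← Scheme.Hom.comp_apply, ← Scheme.Hom.comp_apply, pullback.condition]
  have hcm : c (closedPoint B) = closedPoint A :=
    IsLocalRing.comap_closedPoint (algebraMap A B)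
  have hproper : IsProper g := by
    refine isProper_of_closedFibre g ?_ ?_ ?_
    · obtain ⟨x, hx⟩ := h0
      obtain ⟨z, -, hz⟩ := Scheme.Pullback.exists_preimage_pullback (f := f) (g := c) x (closedPoint B)
        (hx.trans hcm.symm)
      exact ⟨z, hz⟩
    · let φ : CommRingCat.of (A ⧸ maximalIdeal A) ⟶ CommRingCat.of (B ⧸ maximalIdeal B) :=
        CommRingCat.ofHom (Ideal.quotientMap (maximalIdeal B) (algebraMap A B)
          (((IsLocalRing.local_hom_TFAE (algebraMap A B)).out 0 3 rfl rfl).mp inferInstance))
      have e : Spec.map φ ≫ clPt (maximalIdeal A) = clPt (maximalIdeal B) ≫ c := by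
        rw [← Spec.map_comp, ← Spec.map_comp]
        rfl
      have h1 : IsPullback (pullback.fst g (clPt (maximalIdeal B)) ≫ pullback.fst f c)
          (pullback.snd g (clPt (maximalIdeal B))) f (Spec.map φ ≫ clPt (maximalIdeal A)) := by
        rw [e]
        exact (IsPullback.of_hasPullback g (clPt (maximalIdeal B))).paste_horiz
          (IsPullback.of_hasPullback f c)
      let a := pullback.lift (pullback.fst g (clPt (maximalIdeal B)) ≫ pullback.fst f c)
        (pullback.snd g (clPt (maximalIdeal B)) ≫ Spec.map φ) (by rw [h1.w, Category.assoc])
      have h2 : IsPullback a (pullback.snd g (clPt (maximalIdeal B)))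
          (pullback.snd f (clPt (maximalIdeal A))) (Spec.map φ) :=
        IsPullback.of_right (by rw [pullback.lift_fst]; exact h1) (pullback.lift_snd _ _ _)
          (IsPullback.of_hasPullback _ _)
      exact MorphismProperty.of_isPullback h2 hprop
    · intro η hη
      have hmin : ∀ η', η' ⤳ c η → η' = c η := fun η' h => by
        obtain ⟨z, hz, rfl⟩ := Flat.generalizingMap c h
        rw [hη z hz]
      by_cases hne : (g ⁻¹' {η}).Nonempty
      · obtain ⟨z, hz⟩ := hne
        have hfz : f (pullback.fst f c z) = c η := by rw [← hgc]; exact congrArg c hz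
        have hfib : Nonempty ↥(f.fiber (c η)) := by
          obtain ⟨w, -, -⟩ := Scheme.Pullback.exists_preimage_pullback
            (f := f) (g := (Spec (CommRingCat.of A)).fromSpecResidueField (c η)) (pullback.fst f c z) default
            (by rw [hfz, Scheme.fromSpecResidueField_apply])
          exact ⟨w⟩
        have := hgen (c η) hmin hfib
        let r := (Spec (CommRingCat.of B)).fromSpecResidueField η
        have h1 : IsPullback (pullback.fst g r ≫ pullback.fst f c) (pullback.snd g r) f
            (Spec.map (c.residueFieldMap η) ≫ (Spec (CommRingCat.of A)).fromSpecResidueField (c η)) := by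
          rw [Scheme.Hom.SpecMap_residueFieldMap_fromSpecResidueField]
          exact (IsPullback.of_hasPullback g r).paste_horiz (IsPullback.of_hasPullback f c)
        let a : pullback g r ⟶ f.fiber (c η) := pullback.lift (pullback.fst g r ≫ pullback.fst f c)
          (pullback.snd g r ≫ Spec.map (c.residueFieldMap η)) (by rw [h1.w, Category.assoc])
        have h2 : IsPullback a (pullback.snd g r) (f.fiberToSpecResidueField (c η))
            (Spec.map (c.residueFieldMap η)) :=
          IsPullback.of_right (by erw [pullback.lift_fst]; exact h1) (pullback.lift_snd _ _ _)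
            (IsPullback.of_hasPullback _ _)
        have : ConnectedSpace ↥(pullback g r) :=
          GeometricallyConnected.geometrically_connectedSpace (f := f.fiberToSpecResidueField (c η))
            _ _ _ h2
        have e : g ⁻¹' {η} = Set.range (pullback.fst g r) := by
          rw [Scheme.Pullback.range_fst, Scheme.range_fromSpecResidueField]
        rw [e]
        exact (isConnected_range (pullback.fst g r).continuous).isPreconnected
      · rw [Set.not_nonempty_iff_eq_empty.mp hne]
        exact isPreconnected_empty
  have := Unr55.isProper.{u}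
  exact MorphismProperty.of_isPullback_of_descendsAlong (P := @IsProper) (Q := Unr55.fpqc)
    (IsPullback.of_hasPullback f c).flip hc hproper

end Groth.Agent.FBase64.ProperNhd
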