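import Groth.Agent.FBase64.ProperNhd.Completion
import Groth.Agent.Stein58.Unibranch
import Groth.Agent.SchBasics.Reduced
import Groth.Agent.Open62.FiniteTest

/-!
Geometric connectedness of the closed fibre of a proper flat scheme over a normal local domain.
-/

set_option autoImplicit false
universe u

open CategoryTheory CategoryTheory.Limits AlgebraicGeometry TopologicalSpace Topology

namespace Groth.Agent.FBase64.ProperNhd

theorem universallyInjective_of_comp_closedImmersion {Z W S : Scheme.{u}} (ι : Z ⟶ W) (φ : W ⟶ S)
    [IsClosedImmersion ι] [Surjective ι] [UniversallyInjective (ι ≫ φ)] : UniversallyInjective φ := by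
  suffices h : ∀ (K : Type u) [Field K], Function.Injective (fun g : Spec (CommRingCat.of K) ⟶ W => g ≫ φ) from
    ((tfae_universallyInjective φ).out 0 1).2 h
  intro K _ g₁ g₂ hg
  have key : ∀ g : Spec (CommRingCat.of K) ⟶ W, ∃ h, h ≫ ι = g := fun g => by
    have := isIso_of_isClosedImmersion_of_surjective (pullback.snd ι g)
    exact ⟨inv (pullback.snd ι g) ≫ pullback.fst ι g, by rw [Category.assoc, pullback.condition, IsIso.inv_hom_id_assoc]⟩
  obtain ⟨h₁, rfl⟩ := key g₁
  obtain ⟨h₂, rfl⟩ := key g₂
  have hinj : ∀ (L : Type u) [Field L], Function.Injective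
      (fun g : Spec (CommRingCat.of L) ⟶ Z => g ≫ ι ≫ φ) :=
    ((tfae_universallyInjective (ι ≫ φ)).out 0 1).1 ‹UniversallyInjective (ι ≫ φ)›
  have hh : h₁ = h₂ := hinj K (by simpa only [Category.assoc] using hg)
  rw [hh]

/-- A proper flat morphism to an integral geometrically unibranch scheme with geometrically connected
generic fibre has geometrically connected fibres. -/
theorem geometricallyConnected_of_flat {X S : Scheme.{u}} (f : X ⟶ S) [IsProper f] [Flat f] [IsIntegral S]
    [Surjective f] (hS : ∀ s : S, CAlg2.IsGeomUnibranch (S.presheaf.stalk s))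
    (hη : GeometricallyConnected (f.fiberToSpecResidueField (genericPoint S))) :
    GeometricallyConnected f := by
  have := Stein58.geometricallyConnected_toNormalization f
  have hfac := f.toNormalization_fromNormalization
  let g := S.fromSpecResidueField (genericPoint S)
  let r : pullback f g ⟶ pullback f.fromNormalization g :=
    pullback.map f g f.fromNormalization g f.toNormalization (𝟙 _) (𝟙 _) (by simp) (by simp)
  have hr : IsPullback r (pullback.fst f g) (pullback.fst f.fromNormalization g) f.toNormalization :=
    Stein58.isPullback_map_fst g _ hfac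
  haveI : Surjective f.toNormalization := inferInstance
  haveI : Surjective r := MorphismProperty.of_isPullback hr.flip (inferInstance : Surjective f.toNormalization)
  haveI : Surjective (f.toNormalization ≫ f.fromNormalization) := by rw [hfac]; infer_instance
  haveI : Surjective f.fromNormalization := Surjective.of_comp f.toNormalization _
  have hrg : r ≫ pullback.snd f.fromNormalization g = pullback.snd f g :=
    (pullback.lift_snd _ _ _).trans (Category.comp_id _)
  haveI : GeometricallyConnected (r ≫ pullback.snd f.fromNormalization g) := by rw [hrg]; exact hη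
  haveI : IsIntegralHom (pullback.snd f.fromNormalization g) :=
    inferInstance
  have hUI : UniversallyInjective (pullback.snd f.fromNormalization g) := Stein58.universallyInjective_of_factor r _
  have hsub : ∀ w w' : f.normalization, f.fromNormalization w = genericPoint S →
      f.fromNormalization w' = genericPoint S → w = w' := by
    intro w w' hw hw'
    obtain ⟨p, hp, -⟩ := Scheme.Pullback.exists_preimage_pullback (f := f.fromNormalization) (g := g) w default
      (hw.trans (Scheme.fromSpecResidueField_apply _ _).symm)
    obtain ⟨p', hp', -⟩ := Scheme.Pullback.exists_preimage_pullback (f := f.fromNormalization) (g := g) w' default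
      (hw'.trans (Scheme.fromSpecResidueField_apply _ _).symm)
    rw [← hp, ← hp', (pullback.snd f.fromNormalization g).injective (Subsingleton.elim _ _ : pullback.snd f.fromNormalization g p = pullback.snd f.fromNormalization g p')]
  obtain ⟨w₀, hw₀⟩ := f.fromNormalization.surjective (genericPoint S)
  have hgen : ∀ w, w₀ ⤳ w := fun w => by
    obtain ⟨x, rfl⟩ := f.toNormalization.surjective w
    obtain ⟨x', hx', hfx'⟩ := Flat.generalizingMap f
      (show genericPoint S ⤳ f x from (genericPoint_spec S).specializes trivial)
    have hw' : f.fromNormalization (f.toNormalization x') = genericPoint S := by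
      rw [← Scheme.Hom.comp_apply, hfac]; exact hfx'
    rw [← hsub _ _ hw' hw₀]
    exact hx'.map f.toNormalization.continuous
  let I := Scheme.IdealSheafData.vanishingIdeal (⊤ : TopologicalSpace.Closeds f.normalization)
  have : AlgebraicGeometry.IsReduced I.subscheme := SchBasics.isReduced_vanishingIdeal_subscheme _
  have : Surjective I.subschemeι := ⟨fun w => by
    have : w ∈ Set.range I.subschemeι := by
      rw [Scheme.IdealSheafData.range_subschemeι, Scheme.IdealSheafData.coe_support_vanishingIdeal]
      trivial
    exact this⟩
  obtain ⟨z₀, hz₀⟩ := I.subschemeι.surjective w₀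
  have : IrreducibleSpace I.subscheme := by
    have hall : ∀ z, z₀ ⤳ z := fun z =>
      I.subschemeι.isEmbedding.isInducing.specializes_iff.mp (hz₀ ▸ hgen (I.subschemeι z))
    have : IsIrreducible (Set.univ : Set I.subscheme) := by
      have e : closure {z₀} = (Set.univ : Set I.subscheme) :=
        Set.eq_univ_of_forall fun z => (hall z).mem_closure
      rw [← e]
      exact isIrreducible_singleton.closure
    exact { isPreirreducible_univ := this.2, toNonempty := ⟨z₀⟩ }
  have : IsIntegral I.subscheme := isIntegral_of_irreducibleSpace_of_isReduced _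
  let φ := I.subschemeι ≫ f.fromNormalization
  have : Surjective φ := inferInstanceAs (Surjective (_ ≫ _))
  have : IsDominant φ := inferInstance
  have : IsIntegralHom φ := inferInstanceAs (IsIntegralHom (_ ≫ _))
  have hφ : UniversallyInjective (pullback.snd φ g) := by
    let i := pullback.map φ g f.fromNormalization g I.subschemeι (𝟙 _) (𝟙 _) (by simp [φ]) (by simp)
    have hi : i ≫ pullback.snd f.fromNormalization g = pullback.snd φ g :=
      (pullback.lift_snd _ _ _).trans (Category.comp_id _)
    have : IsClosedImmersion i := MorphismProperty.of_isPullback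
      (Stein58.isPullback_map_fst g I.subschemeι (rfl : I.subschemeι ≫ f.fromNormalization = φ)).flip
      (inferInstance : IsClosedImmersion I.subschemeι)
    rw [← hi]
    exact MorphismProperty.comp_mem _ _ _ (inferInstance : UniversallyInjective i) hUI
  have := Stein58.universallyInjective_of_unibranch φ hS hφ
  have := universallyInjective_of_comp_closedImmersion I.subschemeι f.fromNormalization
  rw [← hfac]
  exact Stein58.geometricallyConnected_comp_univInjective _ _

end Groth.Agent.FBase64.ProperNhd

namespace Groth.Agent.FBase64.ProperNhd

/-- Properness of the fibre at a point gives properness of the pullback along any field-valued point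
over it. -/
theorem isProper_snd_of_fibre {X S : Scheme.{u}} (f : X ⟶ S) (K : Type u) [Field K]
    (q : Spec (CommRingCat.of K) ⟶ S) (s : S) (hq : q (IsLocalRing.closedPoint K) = s)
    (h : IsProper (f.fiberToSpecResidueField s)) : IsProper (pullback.snd f q) := by
  obtain ⟨⟨x, φ⟩, rfl⟩ := (Scheme.SpecToEquivOfField K S).symm.surjective q
  have hx : x = s := by
    have h2 := congrArg Sigma.fst ((Scheme.SpecToEquivOfField K S).apply_symm_apply ⟨x, φ⟩)
    exact h2.symm.trans hq
  subst hx
  let v := Spec.map φ
  have h1 : IsPullback (pullback.fst f ((Scheme.SpecToEquivOfField K S).symm ⟨x, φ⟩))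
      (pullback.snd f ((Scheme.SpecToEquivOfField K S).symm ⟨x, φ⟩)) f (v ≫ S.fromSpecResidueField x) :=
    IsPullback.of_hasPullback _ _
  have h2 : IsPullback (pullback.lift (pullback.fst f ((Scheme.SpecToEquivOfField K S).symm ⟨x, φ⟩))
      (pullback.snd f ((Scheme.SpecToEquivOfField K S).symm ⟨x, φ⟩) ≫ v)
      (by rw [h1.w, Category.assoc])) (pullback.snd f ((Scheme.SpecToEquivOfField K S).symm ⟨x, φ⟩))
      (f.fiberToSpecResidueField x) v :=
    IsPullback.of_right (by erw [pullback.lift_fst]; exact h1) (pullback.lift_snd _ _ _)
      (IsPullback.of_hasPullback _ _)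
  exact MorphismProperty.of_isPullback h2 h

theorem isGeomUnibranch_stalk (R : Type u) [CommRing R] [IsDomain R] [IsIntegrallyClosed R]
    (s : Spec (CommRingCat.of R)) : CAlg2.IsGeomUnibranch ((Spec (CommRingCat.of R)).presheaf.stalk s) := by
  have := s.isPrime
  let T := (Spec (CommRingCat.of R)).presheaf.stalk s
  letI : Algebra R T := StructureSheaf.stalkAlgebra R s
  haveI : IsLocalization.AtPrime T s.asIdeal := StructureSheaf.IsLocalization.to_stalk R s
  haveI : IsIntegral (Spec (CommRingCat.of R)) := inferInstance
  haveI : IsIntegrallyClosed T :=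
    isIntegrallyClosed_of_isLocalization T s.asIdeal.primeCompl s.asIdeal.primeCompl_le_nonZeroDivisors
  exact Open62.FiniteTest.isGeomUnibranch_of_isIntegrallyClosed T

theorem surjective_of_proper_flat {R : Type u} [CommRing R] [IsLocalRing R] {X : Scheme.{u}}
    (f : X ⟶ Spec (CommRingCat.of R)) [Flat f] (h : ∃ x, f x = IsLocalRing.closedPoint R) : Surjective f := by
  refine ⟨fun y => ?_⟩
  obtain ⟨x, hx⟩ := h
  obtain ⟨x', -, hx'⟩ := Flat.generalizingMap f
    (show y ⤳ f x by rw [hx]; exact IsLocalRing.specializes_closedPoint (R := R) y)
  exact ⟨x', hx'⟩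

end Groth.Agent.FBase64.ProperNhd
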