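import Groth.Agent.FBase64.ProperNhd.Spread
import Groth.Agent.S17449
import Mathlib.AlgebraicGeometry.Morphisms.SmoothFiber
import Mathlib.AlgebraicGeometry.Noetherian

/-!
Flat separated morphisms with proper smooth fibres and geometrically connected fibres at the maximal
points are proper with geometrically connected fibres.
-/

set_option autoImplicit false
universe u

open CategoryTheory CategoryTheory.Limits AlgebraicGeometry TopologicalSpace Topology

namespace Groth.Agent.FBase64.ProperNhd

variable {X S : Scheme.{u}}

theorem isProper_of_fibres [IsLocallyNoetherian S] (f : X ⟶ S) [Surjective f] [Flat f] [IsSeparated f]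
    [LocallyOfFiniteType f] [QuasiCompact f]
    (hgen : ∀ η : S, (∀ η' : S, η' ⤳ η → η' = η) → GeometricallyConnected (f.fiberToSpecResidueField η))
    (hpr : ∀ s : S, IsProper (f.fiberToSpecResidueField s)) : IsProper f := by
  have key : ∀ s : S, ∃ U : S.Opens, s ∈ U ∧ IsProper (f ∣_ U) := fun s => by
    obtain ⟨x, hx⟩ := f.surjective s
    have : Nonempty ↥(f.fiber s) := by
      have : x ∈ Set.range (f.fiberι s) := by rw [Scheme.Hom.range_fiberι]; exact hx
      obtain ⟨w, -⟩ := this
      exact ⟨w⟩
    exact exists_nhd_isProper f (fun η hη _ => hgen η hη) s (hpr s)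
  choose U hU hP using key
  exact (IsZariskiLocalAtTarget.iff_of_iSup_eq_top (P := @IsProper) U
    (eq_top_iff.mpr fun s _ => Opens.mem_iSup.mpr ⟨s, hU s⟩)).mpr hP

/-- The fibre of the restriction to an open subscheme. -/
theorem isPullback_restrict_fibre (f : X ⟶ S) (V : S.Opens) (v : (V : Scheme.{u})) :
    ∃ a : (f ∣_ V).fiber v ⟶ f.fiber (V.ι v),
      IsPullback a ((f ∣_ V).fiberToSpecResidueField v) (f.fiberToSpecResidueField (V.ι v))
        (Spec.map (V.ι.residueFieldMap v)) := by
  let g := f ∣_ V
  let r := (V : Scheme.{u}).fromSpecResidueField v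
  have h1 : IsPullback (pullback.fst g r ≫ (f ⁻¹ᵁ V).ι) (pullback.snd g r) f
      (Spec.map (V.ι.residueFieldMap v) ≫ S.fromSpecResidueField (V.ι v)) := by
    rw [Scheme.Hom.SpecMap_residueFieldMap_fromSpecResidueField]
    exact (IsPullback.of_hasPullback g r).paste_horiz (isPullback_morphismRestrict f V).flip
  refine ⟨pullback.lift (pullback.fst g r ≫ (f ⁻¹ᵁ V).ι) (pullback.snd g r ≫ Spec.map (V.ι.residueFieldMap v))
    (by erw [h1.w, Category.assoc]; rfl), ?_⟩
  exact IsPullback.of_right (by erw [pullback.lift_fst]; exact h1) (pullback.lift_snd _ _ _)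
    (IsPullback.of_hasPullback _ _)

theorem geometricallyConnected_of_fibres [IsLocallyNoetherian S] (f : X ⟶ S) [IsProper f] [Flat f]
    [Surjective f] (hsm : ∀ s : S, Smooth (f.fiberToSpecResidueField s))
    (hgen : ∀ η : S, (∀ η' : S, η' ⤳ η → η' = η) → GeometricallyConnected (f.fiberToSpecResidueField η)) :
    GeometricallyConnected f := by
  have key : ∀ V : S.Opens, IsAffineOpen V → GeometricallyConnected (f ∣_ V) := by
    intro V hV
    have : IsNoetherianRing Γ(S, V) := IsLocallyNoetherian.component_noetherian ⟨V, hV⟩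
    have : IsLocallyNoetherian (V : Scheme.{u}) := isLocallyNoetherian_of_isOpenImmersion V.ι
    have : CompactSpace (V : Scheme.{u}) := isCompact_iff_compactSpace.mp hV.isCompact
    have : IsNoetherian (V : Scheme.{u}) := ⟨⟩
    have : Surjective (f ∣_ V) := MorphismProperty.of_isPullback (isPullback_morphismRestrict f V).flip ‹Surjective f›
    have : Flat (f ∣_ V) := MorphismProperty.of_isPullback (isPullback_morphismRestrict f V).flip ‹Flat f›
    have : IsProper (f ∣_ V) := MorphismProperty.of_isPullback (isPullback_morphismRestrict f V).flip ‹IsProper f›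
    refine Groth.Agent.S17449.result (f ∣_ V) fun Z η hZ hη => ?_
    have hmin : ∀ η' : S, η' ⤳ V.ι η → η' = V.ι η := fun η' h => by
      have hr : η' ∈ Set.range V.ι := by
        rw [Scheme.Opens.range_ι]
        exact h.mem_open V.2 η.2
      obtain ⟨y, rfl⟩ := hr
      have hy : y ⤳ η := V.ι.isEmbedding.isInducing.specializes_iff.mp h
      have hsub : closure {η} ⊆ closure ({y} : Set ↥(V : Scheme.{u})) :=
        hy.closure_subset
      rw [show closure {η} = Z from hη] at hsub
      have : closure ({y} : Set ↥(V : Scheme.{u})) = Z :=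
        Set.Subset.antisymm (hZ.2 isIrreducible_singleton.closure hsub) hsub
      exact congrArg V.ι ((isGenericPoint_def.mpr this).eq hη)
    obtain ⟨a, ha⟩ := isPullback_restrict_fibre f V η
    exact ⟨MorphismProperty.of_isPullback ha (hgen _ hmin), MorphismProperty.of_isPullback ha (hsm _)⟩
  have e := GeometricallyConnected.eq_geometrically.{u}
  rw [e]
  refine geometrically_iff_forall_fiberToSpecResidueField.mpr fun s => ?_
  obtain ⟨_, ⟨V₀, hV₀, rfl⟩, hs, -⟩ :=
    S.isBasis_affineOpens.exists_subset_of_mem_open (Set.mem_univ s) isOpen_univ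
  let V : S.Opens := V₀
  have hVa : IsAffineOpen V := hV₀
  have := key V hVa
  let v : (V : Scheme.{u}) := ⟨s, hs⟩
  obtain ⟨a, ha⟩ := isPullback_restrict_fibre f V v
  rw [← e]
  have : IsIso (V.ι.residueFieldMap v) := inferInstance
  have hi : IsIso (Spec.map (V.ι.residueFieldMap v)) :=
    Functor.map_isIso Scheme.Spec (V.ι.residueFieldMap v).op
  have := MorphismProperty.IsStableUnderBaseChange.respectsIso (P := @GeometricallyConnected.{u})
  have : IsIso a := MorphismProperty.of_isPullback (P := MorphismProperty.isomorphisms _) ha.flip hi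
  have h' : GeometricallyConnected ((f ∣_ V).fiberToSpecResidueField v) := inferInstance
  rw [← MorphismProperty.cancel_right_of_respectsIso @GeometricallyConnected _
    (Spec.map (V.ι.residueFieldMap v)), ← ha.w,
    MorphismProperty.cancel_left_of_respectsIso @GeometricallyConnected] at h'
  exact h'

end Groth.Agent.FBase64.ProperNhd
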