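import Groth.Agent.FBase64.ProperNhd.Completion
import Groth.Agent.Approx60.ProperDesc
import Groth.Agent.LimTop61.StalkLimit

/-!
Properness near a point of the base, from the fibre over the point.
-/

set_option autoImplicit false
universe u

open CategoryTheory CategoryTheory.Limits AlgebraicGeometry TopologicalSpace Topology IsLocalRing

namespace Groth.Agent.FBase64.ProperNhd

variable {X S : Scheme.{u}}

set_option backward.isDefEq.respectTransparency false in
set_option backward.defeqAttrib.useBackward true in
/-- A morphism proper over the local scheme at a point is proper over a neighbourhood. -/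
theorem exists_nhd_isProper_of_stalk (f : X ⟶ S) [LocallyOfFiniteType f] [QuasiCompact f]
    [QuasiSeparated f] (s : S) (h : IsProper (pullback.snd f (S.fromSpecStalk s))) :
    ∃ W : S.Opens, s ∈ W ∧ IsProper (f ∣_ W) := by
  let p := S.fromSpecStalk s
  let D := LimTop61.nhdSpec S s
  let i₀ : (LimTop61.AffineNhd S s)ᵒᵖ := Opposite.op (Classical.arbitrary _)
  let ι := (LimTop61.nhdι S s).app i₀
  have hι : ∀ i, IsOpenImmersion ((LimTop61.nhdι S s).app i) := fun i =>
    IsAffineOpen.isOpenImmersion_fromSpec _
  have := hι i₀
  let f₀ : pullback f ι ⟶ D.obj i₀ := pullback.snd f ι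
  have : CompactSpace (D.obj i₀) := inferInstanceAs (CompactSpace (Spec (_ : CommRingCat)))
  have : QuasiSeparatedSpace (D.obj i₀) := inferInstanceAs (QuasiSeparatedSpace (Spec (_ : CommRingCat)))
  have : CompactSpace ↥(pullback f ι) := QuasiCompact.compactSpace_of_compactSpace f₀
  have : QuasiSeparatedSpace ↥(pullback f ι) := quasiSeparatedSpace_of_quasiSeparated f₀
  have hπ : (LimTop61.nhdCone S s).π.app i₀ ≫ ι = p := LimTop61.nhdCone_π_ι S s i₀
  let π₀ := (LimTop61.nhdCone S s).π.app i₀
  let qX : pullback f p ⟶ pullback f ι := pullback.lift (pullback.fst f p) (pullback.snd f p ≫ π₀)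
    (by rw [Category.assoc, hπ]; exact pullback.condition)
  have hX : IsPullback qX (pullback.snd f p) f₀ π₀ := by
    refine IsPullback.of_right ?_ (pullback.lift_snd _ _ _) (IsPullback.of_hasPullback f ι)
    rw [pullback.lift_fst, hπ]
    exact IsPullback.of_hasPullback f p
  obtain ⟨i, φ, Xi, Yi, fi, gi, pY, pX, hYi, hXi, hfi⟩ := Approx60.S2074 D (LimTop61.nhdCone S s)
    (LimTop61.isLimitNhdCone S s) i₀ f₀ (𝟙 _) (pullback.snd f p) (𝟙 _) π₀ qX
    (IsPullback.of_vert_isIso ⟨(Category.comp_id _).trans (Category.id_comp _).symm⟩) hX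
  let ιi := (LimTop61.nhdι S s).app i
  have := hι i
  have hφ : D.map φ ≫ ι = ιi := ((LimTop61.nhdι S s).naturality φ).trans (Category.comp_id _)
  have : IsIso gi := MorphismProperty.of_isPullback (P := MorphismProperty.isomorphisms _) hYi
    (inferInstanceAs (IsIso (𝟙 (D.obj i₀))))
  have hXb : IsPullback (pX ≫ pullback.fst f ι) (fi ≫ gi) f ιi := by
    rw [← hφ]
    exact ((hXi.paste_vert hYi).of_iso (Iso.refl _) (Iso.refl _) (Iso.refl _) (Iso.refl _) (by simp)
      (by simp) (by simp [f₀]) (by simp)).paste_horiz (IsPullback.of_hasPullback f ι)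
  refine ⟨ιi.opensRange, ?_, ?_⟩
  · change s ∈ Set.range ιi
    rw [show Set.range ιi = ((OrderDual.ofDual i.unop).1.1 : Set S) from IsAffineOpen.range_fromSpec _]
    exact (OrderDual.ofDual i.unop).2
  rw [MorphismProperty.arrow_mk_iso_iff @IsProper (morphismRestrictOpensRange f ιi)]
  rw [← hXb.isoPullback_inv_snd]
  exact (MorphismProperty.cancel_left_of_respectsIso @IsProper hXb.isoPullback.inv _).mpr inferInstance

/-- A flat separated morphism is proper near a point with nonempty proper fibre, if the fibres over
the maximal points are geometrically connected. -/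
theorem exists_nhd_isProper [IsLocallyNoetherian S] (f : X ⟶ S) [Flat f] [IsSeparated f]
    [LocallyOfFiniteType f] [QuasiCompact f]
    (hgen : ∀ η : S, (∀ η' : S, η' ⤳ η → η' = η) → Nonempty ↥(f.fiber η) →
      GeometricallyConnected (f.fiberToSpecResidueField η))
    (s : S) [Nonempty ↥(f.fiber s)] (hs : IsProper (f.fiberToSpecResidueField s)) :
    ∃ U : S.Opens, s ∈ U ∧ IsProper (f ∣_ U) := by
  refine exists_nhd_isProper_of_stalk f s ?_
  let A := S.presheaf.stalk s
  let p := S.fromSpecStalk s
  let g : pullback f p ⟶ Spec (CommRingCat.of A) := pullback.snd f p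
  have hgc : ∀ z, p (g z) = f (pullback.fst f p z) := fun z => by
    show p (pullback.snd f p z) = _
    rw [← Scheme.Hom.comp_apply, ← Scheme.Hom.comp_apply, pullback.condition]
  have : Flat g := inferInstanceAs (Flat (pullback.snd f p))
  have : IsSeparated g := inferInstanceAs (IsSeparated (pullback.snd f p))
  have : LocallyOfFiniteType g := inferInstanceAs (LocallyOfFiniteType (pullback.snd f p))
  have : QuasiCompact g := inferInstanceAs (QuasiCompact (pullback.snd f p))
  show IsProper g
  refine isProper_of_closedFibre_local g ?_ ?_ ?_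
  · obtain ⟨x⟩ := ‹Nonempty ↥(f.fiber s)›
    have hx : f (f.fiberι s x) = s := by
      have : f.fiberι s x ∈ Set.range (f.fiberι s) := ⟨x, rfl⟩
      rw [Scheme.Hom.range_fiberι] at this
      exact this
    obtain ⟨z, -, hz⟩ := Scheme.Pullback.exists_preimage_pullback (f := f) (g := p) (f.fiberι s x)
      (closedPoint A) (hx.trans Scheme.fromSpecStalk_closedPoint.symm)
    exact ⟨z, hz⟩
  · have h1 : IsPullback (pullback.fst g (clPt (maximalIdeal A)) ≫ pullback.fst f p)
        (pullback.snd g (clPt (maximalIdeal A))) f (S.fromSpecResidueField s) :=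
      (IsPullback.of_hasPullback g (clPt (maximalIdeal A))).paste_horiz (IsPullback.of_hasPullback f p)
    rw [← h1.isoPullback_hom_snd]
    exact (MorphismProperty.cancel_left_of_respectsIso @IsProper h1.isoPullback.hom _).mpr hs
  · intro η hη hne
    have hmin : ∀ η' : S, η' ⤳ p η → η' = p η := fun η' h => by
      have hr : η' ∈ Set.range p := by
        rw [Scheme.range_fromSpecStalk]
        exact h.trans (by
          have := Scheme.range_fromSpecStalk.le (⟨η, rfl⟩ : p η ∈ Set.range p)
          exact this)
      obtain ⟨y, rfl⟩ := hr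
      rw [hη y ((p.isEmbedding.isInducing.specializes_iff).mp h)]
    let r := (Spec (CommRingCat.of A)).fromSpecResidueField η
    have hfib : Nonempty ↥(f.fiber (p η)) := by
      obtain ⟨w⟩ := hne
      have hw : g (g.fiberι η w) = η := by
        have : g.fiberι η w ∈ Set.range (g.fiberι η) := ⟨w, rfl⟩
        rw [Scheme.Hom.range_fiberι] at this
        exact this
      obtain ⟨v, -, -⟩ := Scheme.Pullback.exists_preimage_pullback
        (f := f) (g := S.fromSpecResidueField (p η)) (pullback.fst f p (g.fiberι η w)) default
        (by rw [← hgc, hw, Scheme.fromSpecResidueField_apply])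
      exact ⟨v⟩
    have := hgen (p η) hmin hfib
    have h1 : IsPullback (pullback.fst g r ≫ pullback.fst f p) (pullback.snd g r) f
        (Spec.map (p.residueFieldMap η) ≫ S.fromSpecResidueField (p η)) := by
      rw [Scheme.Hom.SpecMap_residueFieldMap_fromSpecResidueField]
      exact (IsPullback.of_hasPullback g r).paste_horiz (IsPullback.of_hasPullback f p)
    let a : g.fiber η ⟶ f.fiber (p η) := pullback.lift (pullback.fst g r ≫ pullback.fst f p)
      (pullback.snd g r ≫ Spec.map (p.residueFieldMap η)) (by erw [h1.w, Category.assoc]; rfl)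
    have h2 : IsPullback a (g.fiberToSpecResidueField η) (f.fiberToSpecResidueField (p η))
        (Spec.map (p.residueFieldMap η)) :=
      IsPullback.of_right (by erw [pullback.lift_fst]; exact h1) (pullback.lift_snd _ _ _)
        (IsPullback.of_hasPullback _ _)
    exact MorphismProperty.of_isPullback h2 ‹GeometricallyConnected (f.fiberToSpecResidueField (p η))›

end Groth.Agent.FBase64.ProperNhd
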